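import Cfsg.Prelude.Def_LieTypes
import Cfsg.Prelude.Def_ChevB2
import Cfsg.Agent.ChevalleyStructure.RootVec

/-!
# S4981: functionals on the roots modulo `p` (helper660)

* `Lin D a` : `a : ℕ → ZMod p` is, on the indices of the roots of `D`, the restriction of a linear functional;
* `cnt D a b` : the number of roots with value `b`.
-/

set_option autoImplicit false

namespace Cfsg.Agent.H660.PQ

open Cfsg.Lie Cfsg.Agent.ChevalleyStructure

/-- `a` is the restriction of a linear functional to the roots -/
def Lin (D : ChevalleyDatum) {p : ℕ} (a : ℕ → ZMod p) : Prop :=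
  ∃ m : ℕ → ZMod p, ∀ s < D.nroots, a s = ∑ j ∈ Finset.range D.rank, ((RootVec.rt D s j : ℤ) : ZMod p) * m j

/-- the number of roots with value `b` -/
def cnt (D : ChevalleyDatum) {p : ℕ} (a : ℕ → ZMod p) (b : ZMod p) : ℕ :=
  ((Finset.range D.nroots).filter fun s => a s = b).card

end Cfsg.Agent.H660.PQ
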