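import Cfsg.Agent.H660.PQ.Tor
import Cfsg.Agent.H660.PQ.DiagSyl
import Cfsg.Agent.H754.PQ.Final
import Cfsg.Agent.H967.CopChev

/-!
# S4981: no example in exceptional groups, if the parameter satisfies `u² ≠ 1` modulo `p` (helper660)

`exc_false` : `G ≤ D.group F` stable under field automorphisms, `φ ≠ 1` a field automorphism of `q`-power order,
`|Fx φ| = s ^ d`, `q ∤ d`, `q ∣ ord_p |Fx φ|`, the eigenvalues of the elements of `G` are closed under the power
`u = s ^ ord φ`, `u² ≠ 1` modulo `p`; the numerical statement `main` is `num_false` or `num_false_e8`.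
-/

set_option autoImplicit false

open Polynomial Cfsg

namespace Cfsg.Agent.H660.PQ

open Cfsg.Lie Cfsg.Agent.ChevalleyStructure Cfsg.Agent.ChevalleyStructure.Elts
  Cfsg.Agent.ChevalleyStructure.CoxeterGeom Cfsg.Agent.ChevalleyStructure.CoxeterGeomTypes Cfsg.Agent.Tits.Roots
  Cfsg.Agent.Nodes.RGDChev Cfsg.Agent.H129.TorusChar Cfsg.Agent.BpExc.TorChev
  Cfsg.Agent.KFacts.RgdChevCoord Cfsg.Agent.H54.PQ Cfsg.Agent.H754.PQ Cfsg.Agent.H967.CopMat Cfsg.Agent.H967.CopChev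

open scoped MatrixGroups

/-- a primitive `p`-th root of unity -/
theorem exists_prim {K : Type*} [Field K] [Fintype K] {p : ℕ} [hp : Fact p.Prime] (h : p ∣ Fintype.card K - 1) :
    ∃ ζ : K, IsPrimitiveRoot ζ p := by
  classical
  rw [← Fintype.card_units] at h
  obtain ⟨x, hx⟩ := exists_prime_orderOf_dvd_card p h
  refine ⟨x, ?_⟩
  rw [IsPrimitiveRoot.coe_units_iff, ← hx]
  exact IsPrimitiveRoot.orderOf x

/-- roots of the characteristic polynomial of a diagonal matrix -/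
theorem roots_diag {ι : Type*} [Fintype ι] [DecidableEq ι] {K : Type*} [Field K] (d : ι → K) :
    (Matrix.diagonal d).charpoly.roots = Finset.univ.val.map d := by
  rw [Matrix.charpoly_diagonal]
  have h : (∏ i, (X - C (d i))) = ((Finset.univ.val.map d).map fun a => X - C a).prod := by
    rw [Multiset.map_map]
    rfl
  rw [h, Polynomial.roots_multiset_prod_X_sub_C]

/-- `p` does not divide the order of a field in which `p` is not zero -/
theorem not_dvd_card {F : Type*} [Field F] [Finite F] {p : ℕ} (hp : p.Prime) (hpF : (p : F) ≠ 0) :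
    ¬ p ∣ Nat.card F := by
  classical
  have := Fintype.ofFinite F
  intro h
  obtain ⟨r, hr⟩ := CharP.exists F
  obtain ⟨n, hrp, hn⟩ := FiniteField.card F r
  rw [Nat.card_eq_fintype_card, hn] at h
  have h1 := (Nat.prime_dvd_prime_iff_eq hp hrp).1 (hp.dvd_of_dvd_pow h)
  subst h1
  exact hpF (CharP.cast_eq_zero F p)

section

variable {D : ChevalleyDatum} {l : ℕ} {M : CoxeterMatrix (Fin l)} {p q : ℕ} [hp : Fact p.Prime] [hq : Fact q.Prime]

/-- the units for which the numbers are congruent modulo `p` form a subgroup -/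
theorem congr_gcd {N : ZMod p → ℕ} {c : (ZMod p)ˣ} {m n : ℕ}
    (hm : ∀ b, b ≠ 0 → (p : ℤ) ∣ (N ((c ^ m : (ZMod p)ˣ) * b) : ℤ) - N b)
    (hn : ∀ b, b ≠ 0 → (p : ℤ) ∣ (N ((c ^ n : (ZMod p)ˣ) * b) : ℤ) - N b) (hmn : Nat.gcd m n = 1) :
    ∀ b, b ≠ 0 → (p : ℤ) ∣ (N (c * b) : ℤ) - N b := by
  let H : Subgroup (ZMod p)ˣ :=
    { carrier := {w | ∀ b : ZMod p, b ≠ 0 → (p : ℤ) ∣ (N (w * b) : ℤ) - N b}
      one_mem' := fun b _ => by rw [Units.val_one, one_mul, sub_self]; exact dvd_zero _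
      mul_mem' := fun {x y} hx hy b hb => by
        have h1 := hx (y * b) (mul_ne_zero y.ne_zero hb)
        have h2 := hy b hb
        rw [Units.val_mul, mul_assoc]
        have h3 := dvd_add h1 h2
        rwa [sub_add_sub_cancel] at h3
      inv_mem' := fun {x} hx b hb => by
        have h1 := hx ((x⁻¹ : (ZMod p)ˣ) * b) (mul_ne_zero (Units.ne_zero _) hb)
        rw [← mul_assoc, Units.mul_inv, one_mul] at h1
        rw [← dvd_neg, neg_sub]
        exact h1 }
  have h1 : c ^ m ∈ H := hm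
  have h2 : c ^ n ∈ H := hn
  have h3 : c ∈ H := by
    have h4 : c = (c ^ m) ^ (Nat.gcdA m n) * (c ^ n) ^ (Nat.gcdB m n) := by
      rw [← zpow_natCast, ← zpow_natCast, ← zpow_mul, ← zpow_mul, ← zpow_add, ← Nat.gcd_eq_gcd_ab, hmn, Nat.cast_one,
        zpow_one]
    rw [h4]
    exact mul_mem (zpow_mem h1 _) (zpow_mem h2 _)
  exact h3

/-- **no example in exceptional groups**, `u² ≠ 1` modulo `p` -/
theorem exc_false (hD : IsType D l M) (h7 : 7 < p) {F : Type} [Field F] [Finite F] (hpF : (p : F) ≠ 0)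
    {G : Subgroup (GL D.Idx F)} (hG : Stab G) (hle : G ≤ D.group F) {A Φ : Subgroup (MulAut ↥G)} {φ : F ≃+* F}
    (hφ : φ ≠ 1) (hF : FSit p q (fieldAut hG) A Φ φ) (hinv : InvHyp p A Φ) (hpG : p ∣ Nat.card ↥G)
    {s d : ℕ} (hs : Nat.card (Fx φ) = s ^ d) (hd : ¬ q ∣ d) (hord : q ∣ orderOf ((Nat.card (Fx φ) : ℕ) : ZMod p))
    (hui : ∀ (K : Type) [Field K] [Finite K] [Algebra F K],
      (∀ g : ↥G, ((g : GL D.Idx F) : Matrix D.Idx D.Idx F).charpoly.map (algebraMap F K) |>.Splits) → ∀ x : ↥G,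
      (rts G.subtype K x).map (· ^ (s ^ orderOf φ)) = rts G.subtype K x)
    (hu2 : ((s ^ orderOf φ : ℕ) : ZMod p) ^ 2 ≠ 1)
    (main : ∀ (a : (Fin l → ℤ) →+ ZMod p) (c : (ZMod p)ˣ) (j : ℕ), a ≠ 0 → q ∣ orderOf c → 1 ≤ j →
      (∀ b, b ≠ 0 → nb D a ((c ^ q ^ j : (ZMod p)ˣ) * b) = nb D a b) →
      (∀ b, b ≠ 0 → (p : ℤ) ∣ (nb D a (c * b) : ℤ) - nb D a b) → 2 ∣ Nat.card (cl (c ^ q ^ j)) →
      4 ≤ Nat.card (cl (c ^ q ^ j)) → False) : False := by
  classical
  have := Fintype.ofFinite ↥G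
  have hp2 : p ≠ 2 := by omega
  obtain ⟨K, _, _, _, hsf, hK⟩ := exists_big_field hp.out hpF
    (∏ g : ↥G, (((g : GL D.Idx F) : Matrix D.Idx D.Idx F)).charpoly)
    (Finset.prod_ne_zero_iff.2 fun g _ => (Matrix.charpoly_monic _).ne_zero)
  have hsp : ∀ g : ↥G, ((((g : GL D.Idx F) : Matrix D.Idx D.Idx F)).charpoly.map (algebraMap F K)).Splits := by
    intro g
    rw [Polynomial.map_prod] at hsf
    refine hsf.of_dvd ?_ (Finset.dvd_prod_of_mem _ (Finset.mem_univ g))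
    exact Finset.prod_ne_zero_iff.2 fun g _ => ((Matrix.charpoly_monic _).map _).ne_zero
  obtain ⟨ζ, hζ⟩ := exists_prim (K := K) hK
  obtain ⟨T, hT1, hT2⟩ := exists_torus_sylow hD.inList K h7 hK
  obtain ⟨k, b₀, hb1, hk, -, hkx, ⟨x, hx⟩, -⟩ := exists_k p ↥G hpG
  have hleK : ∀ g ∈ G, Matrix.GeneralLinearGroup.map (algebraMap F K) g ∈ D.group K := fun g hg =>
    map_group_le D (algebraMap F K) ⟨g, hle hg, rfl⟩
  have hker : ∀ z ∈ (MonoidHom.id ↥G).ker, z = 1 := fun z hz => hz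
  have hkp : ¬ p ∣ Nat.card (MonoidHom.id ↥G).ker := by
    have h1 : (MonoidHom.id ↥G).ker = ⊥ := by
      rw [Subgroup.eq_bot_iff_forall]
      exact hker
    rw [h1, Subgroup.card_bot]
    exact hp.out.not_dvd_one
  obtain ⟨j', hj', hmult⟩ := row_mult (p := p) (q := q) hp2 hpF hF hinv hG (MonoidHom.id ↥G) Function.surjective_id
    (fun z hz => by rw [hker z hz]; exact one_mem _) hkp (fun σ g => rfl) (fun g hg => hsp ⟨g, hg⟩) (stab_group D K)
    hleK hT2 hk (fun z hz => by rw [hker z hz, one_pow]) (x := x) ⟨b₀, by rw [← hx, pow_orderOf_eq_one]⟩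
  -- the torus element
  set y : ↥(D.group K) := ⟨Matrix.GeneralLinearGroup.map (algebraMap F K) (x : GL D.Idx F), hleK _ x.2⟩ with hy
  have hyj : y ^ p ^ b₀ = 1 := by
    refine Subtype.ext ?_
    show (Matrix.GeneralLinearGroup.map (algebraMap F K) (x : GL D.Idx F)) ^ p ^ b₀ = 1
    have h1 : (x : GL D.Idx F) ^ p ^ b₀ = 1 := by
      have h2 : x ^ p ^ b₀ = 1 := by rw [← hx, pow_orderOf_eq_one]
      have h3 := congrArg Subtype.val h2
      exact h3
    rw [← map_pow, h1, map_one]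
  obtain ⟨g, hg⟩ := exists_conj_mem T ⟨b₀, hyj⟩
  set t : ↥(D.group K) := (g * y * g⁻¹) ^ k with ht
  have htT : t ∈ TT D K := by
    rw [Subgroup.mem_subgroupOf]
    exact hT1 t (pow_mem hg k)
  have hyk : ((y ^ k : ↥(D.group K)) : GL D.Idx K) =
      Matrix.GeneralLinearGroup.map (algebraMap F K) ((x ^ k : ↥G) : GL D.Idx F) := by
    rw [Subgroup.coe_pow, Subgroup.coe_pow, map_pow]
  have htp : t ^ p = 1 := by
    have h1 : (y ^ k) ^ p = 1 := by
      refine Subtype.ext ?_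
      rw [Subgroup.coe_pow, hyk, ← map_pow, ← Subgroup.coe_pow, hk, Subgroup.coe_one, map_one, Subgroup.coe_one]
    rw [ht, conj_pow, conj_pow, h1, mul_one, mul_inv_cancel]
  have ht1 : t ≠ 1 := by
    intro h
    rw [ht, conj_pow] at h
    have h1 : y ^ k = 1 := conj_eq_one_iff.1 h
    have h2 : Matrix.GeneralLinearGroup.map (algebraMap F K) ((x ^ k : ↥G) : GL D.Idx F) = 1 := by
      rw [← hyk, h1, Subgroup.coe_one]
    have h3 : ((x ^ k : ↥G) : GL D.Idx F) = 1 :=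
      Cfsg.Agent.H967.CopMat.map_injective (algebraMap F K) (by rw [h2, map_one])
    exact hkx x hx (Subtype.ext h3)
  set R := rts G.subtype K (x ^ k) with hR
  have hRd : R = (Finset.univ : Finset D.Idx).val.map (Sum.elim (fun _ => (1 : K))
      (fun s : Fin D.nroots => cX hD t (vec D l s))) := by
    have h1 : ((((x ^ k : ↥G) : GL D.Idx F) : Matrix D.Idx D.Idx F)).charpoly.map (algebraMap F K) =
        ((t : GL D.Idx K) : Matrix D.Idx D.Idx K).charpoly := by
      have h2 : (t : GL D.Idx K) = (g : GL D.Idx K) *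
          Matrix.GeneralLinearGroup.map (algebraMap F K) ((x ^ k : ↥G) : GL D.Idx F) * (g : GL D.Idx K)⁻¹ := by
        rw [ht, conj_pow, Subgroup.coe_mul, Subgroup.coe_mul, Subgroup.coe_inv, hyk]
      rw [h2, Units.val_mul, Units.val_mul, Matrix.coe_units_inv, Matrix.charpoly_units_conj]
      have h3 : ((Matrix.GeneralLinearGroup.map (algebraMap F K) ((x ^ k : ↥G) : GL D.Idx F) : GL D.Idx K) :
          Matrix D.Idx D.Idx K) = (((x ^ k : ↥G) : GL D.Idx F) : Matrix D.Idx D.Idx F).map (algebraMap F K) := rfl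
      rw [h3, Matrix.charpoly_map]
    show (((((x ^ k : ↥G) : GL D.Idx F) : Matrix D.Idx D.Idx F)).charpoly.map (algebraMap F K)).roots = _
    rw [h1, Cfsg.Agent.H501.TorStr.coe_TT hD htT, roots_diag]
  have hRp : ∀ μ ∈ R, μ ^ p = 1 := rhoK_pow_mem G.subtype K (hk x)
  -- the functional
  obtain ⟨a, ha⟩ := exists_log hD hζ htT htp
  have ha0 : a ≠ 0 := log_ne_zero hD hζ htT ht1 ha
  have hcount : ∀ b : ZMod p, b ≠ 0 → R.count (ζ ^ b.val) = nb D a b := by
    intro b hb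
    have hb1 : ζ ^ b.val ≠ 1 := by
      intro h
      apply hb
      apply ze_inj hζ
      rw [h, ze_zero]
    rw [hRd]
    refine (count_diag (a := D.rank) (b := D.nroots) (fun s => cX hD t (vec D l s)) hb1).trans ?_
    unfold nb cnt
    rw [← card_filter_fin]
    congr 1
    refine Finset.filter_congr fun s _ => ?_
    rw [ha]
    constructor
    · exact fun h => ze_inj hζ h
    · intro h
      have h' : a (vec D l s) = b := h
      rw [h']
  -- the parameter
  obtain ⟨i, hi⟩ := hF.φ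
  have hpc : ¬ p ∣ s ^ d := by
    rw [← hs]
    intro h
    refine not_dvd_card hp.out hpF (h.trans ?_)
    rw [card_Fx φ]
    exact dvd_pow_self _ (by rw [hi]; exact pow_ne_zero _ hq.out.ne_zero)
  have hd0 : d ≠ 0 := by
    rintro rfl
    exact hd (dvd_zero q)
  have hps : ¬ p ∣ s := fun h => hpc (h.trans (dvd_pow_self _ hd0))
  have hs0 : ((s : ℕ) : ZMod p) ≠ 0 := by rwa [Ne, ZMod.natCast_eq_zero_iff]
  set c : (ZMod p)ˣ := Units.mk0 ((s : ℕ) : ZMod p) hs0 with hc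
  have hi1 : 1 ≤ i := by
    by_contra hcon
    have h1 : i = 0 := by omega
    rw [h1, pow_zero, orderOf_eq_one_iff] at hi
    exact hφ hi
  have hqc : q ∣ orderOf c := by
    have h1 : ((Nat.card (Fx φ) : ℕ) : ZMod p) = ((c ^ d : (ZMod p)ˣ) : ZMod p) := by
      rw [hs, Nat.cast_pow, Units.val_pow_eq_pow_val, hc, Units.val_mk0]
    rw [h1, orderOf_units] at hord
    exact hord.trans (orderOf_pow_dvd d)
  have hcu : ((c ^ q ^ i : (ZMod p)ˣ) : ZMod p) = ((s ^ orderOf φ : ℕ) : ZMod p) := by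
    rw [Units.val_pow_eq_pow_val, hc, Units.val_mk0, hi, Nat.cast_pow]
  have hpu : ¬ p ∣ s ^ orderOf φ := fun h => hps (hp.out.dvd_of_dvd_pow h)
  have hQ : ∀ b, b ≠ 0 → nb D a ((c ^ q ^ i : (ZMod p)ˣ) * b) = nb D a b := by
    intro b hb
    rw [← hcount b hb, ← hcount _ (mul_ne_zero (Units.ne_zero _) hb), hcu, ze_mul hζ]
    have h1 := hui K hsp (x ^ k)
    rw [← hR] at h1
    nth_rewrite 1 [← h1]
    exact count_map_pow hRp hpu (ze_pow hζ b)
  have hcong : ∀ b, b ≠ 0 → (p : ℤ) ∣ (nb D a ((c ^ (d * j') : (ZMod p)ˣ) * b) : ℤ) - nb D a b := by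
    intro b hb
    have h1 : ((c ^ (d * j') : (ZMod p)ˣ) : ZMod p) = ((Nat.card (Fx φ) ^ j' : ℕ) : ZMod p) := by
      rw [Units.val_pow_eq_pow_val, hc, Units.val_mk0, hs, ← pow_mul, Nat.cast_pow]
    have hpw : ¬ p ∣ Nat.card (Fx φ) ^ j' := by
      rw [hs]
      exact fun h => hpc (hp.out.dvd_of_dvd_pow h)
    rw [← hcount b hb, ← hcount _ (mul_ne_zero (Units.ne_zero _) hb), h1, ze_mul hζ]
    have h2 := hmult ((ζ ^ b.val) ^ Nat.card (Fx φ) ^ j')
    rw [count_map_pow hRp hpw (ze_pow hζ b)] at h2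
    exact h2
  have hqd : Nat.gcd (d * j') (q ^ i) = 1 := by
    refine Nat.Coprime.pow_right i ?_
    rw [Nat.coprime_comm, Nat.Prime.coprime_iff_not_dvd hq.out]
    intro h
    rcases (Nat.Prime.dvd_mul hq.out).1 h with h | h
    · exact hd h
    · exact hj' h
  have hcc := congr_gcd hcong (fun b hb => by rw [hQ b hb, sub_self]; exact dvd_zero _) hqd
  have hc2 : (c ^ q ^ i) ^ 2 ≠ 1 := by
    intro h
    apply hu2
    rw [← hcu, ← Units.val_pow_eq_pow_val, h, Units.val_one]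
  obtain ⟨h2, h4⟩ := four_le_cl hp2 hc2
  exact main a c i ha0 hqc hi1 hQ hcc h2 h4

end

end Cfsg.Agent.H660.PQ
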