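import Cfsg.Agent.Nodes.RGDChev

/-!
# S4981: functionals which are injective on the roots outside their kernel (helper660)

`root1` : if an additive map on the root lattice takes every nonzero value at most once on the roots and vanishes on some
root, then it is zero.
-/

set_option autoImplicit false

namespace Cfsg.Agent.H660.PQ

open CoxeterSystem Cfsg.Lie Cfsg.Agent.ChevalleyStructure Cfsg.Agent.ChevalleyStructure.Elts
  Cfsg.Agent.ChevalleyStructure.CoxeterGeom Cfsg.Agent.ChevalleyStructure.CoxeterGeomTypes Cfsg.Agent.Tits.Roots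
  Cfsg.Agent.Nodes.RGDChev

/-- one step in the Dynkin diagram -/
def step {l : ℕ} (A : Fin l → Fin l → ℤ) (S : Finset (Fin l)) : Finset (Fin l) :=
  Finset.univ.filter fun j => j ∈ S ∨ ∃ i ∈ S, A i j ≠ 0

/-- the Dynkin diagram is connected -/
def Conn {l : ℕ} (A : Fin l → Fin l → ℤ) : Prop := ∀ i : Fin l, (step A)^[l] {i} = Finset.univ

instance {l : ℕ} (A : Fin l → Fin l → ℤ) : Decidable (Conn A) := by unfold Conn; infer_instance

theorem Conn.all {l : ℕ} {A : Fin l → Fin l → ℤ} (h : Conn A) {P : Fin l → Prop}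
    (hP : ∀ i j, P i → A i j ≠ 0 → P j) {i : Fin l} (hi : P i) (j : Fin l) : P j := by
  have h1 : ∀ n : ℕ, ∀ j ∈ (step A)^[n] {i}, P j := by
    intro n
    induction n with
    | zero =>
      intro j hj
      rw [Function.iterate_zero, id, Finset.mem_singleton] at hj
      rwa [hj]
    | succ n ih =>
      intro j hj
      rw [Function.iterate_succ_apply', step, Finset.mem_filter] at hj
      rcases hj.2 with h2 | ⟨k, hk, h2⟩
      · exact ih j h2
      · exact hP k j (ih k hk) h2
  exact h1 l j (by rw [h i]; exact Finset.mem_univ j)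

section

variable {D : ChevalleyDatum} {l : ℕ} {M : CoxeterMatrix (Fin l)} (hp : IsType D l M) {W : Type*} [Group W]
  (cs : CoxeterSystem M W) {R : Type*} [AddCommGroup R]

theorem root1 (hc : Conn (cartanOf D l)) (a : (Fin l → ℤ) →+ R)
    (hinj : ∀ x y, IsRoot cs hp.isCartan x → IsRoot cs hp.isCartan y → a x = a y → a x ≠ 0 → x = y)
    {s : Fin l → ℤ} (hs : IsRoot cs hp.isCartan s) (h0 : a s = 0) : a = 0 := by
  obtain ⟨w, i, rfl⟩ := hs
  have h1 : ∀ j, a (rep cs hp.isCartan w (sr j)) = 0 := by
    refine hc.all (P := fun j => a (rep cs hp.isCartan w (sr j)) = 0) ?_ h0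
    intro i j hi hij
    by_contra hj
    have e1 : rep cs hp.isCartan (w * cs.simple i) (sr j) =
        rep cs hp.isCartan w (sr j) - cartanOf D l i j • rep cs hp.isCartan w (sr i) := by
      rw [rep_mul_apply, rep_simple_eq, map_sub, map_zsmul]
      congr 2
      rw [sr, pairing_single, mul_one]
    have e2 : a (rep cs hp.isCartan w (sr j)) = a (rep cs hp.isCartan (w * cs.simple i) (sr j)) := by
      rw [e1, map_sub, map_zsmul, hi, smul_zero, sub_zero]
    have e3 := hinj _ _ ((isRoot_sr cs hp.isCartan j).act w) ((isRoot_sr cs hp.isCartan j).act (w * cs.simple i)) e2 hj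
    rw [e1] at e3
    have e4 : cartanOf D l i j • rep cs hp.isCartan w (sr i) = 0 := sub_eq_self.1 e3.symm
    rcases smul_eq_zero.1 e4 with h | h
    · exact hij h
    · exact rep_single_ne_zero cs hp.isCartan w i h
  have h2 : ∀ v : Fin l → ℤ, a (rep cs hp.isCartan w v) = 0 := by
    intro v
    have e : v = ∑ i, v i • (sr i : Fin l → ℤ) := by
      funext j
      rw [Finset.sum_apply, Finset.sum_eq_single j]
      · rw [Pi.smul_apply, sr_self, smul_eq_mul, mul_one]
      · intro i _ hi
        rw [Pi.smul_apply, sr_ne (Ne.symm hi), smul_zero]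
      · intro hj
        exact absurd (Finset.mem_univ j) hj
    rw [e, map_sum, map_sum]
    refine Finset.sum_eq_zero fun i _ => ?_
    rw [map_zsmul, map_zsmul, h1, smul_zero]
  ext x
  have h3 := h2 (rep cs hp.isCartan w⁻¹ (Pi.single x 1))
  rw [rep_apply_inv] at h3
  simpa using h3

end

theorem conn_g2 : Conn (cartanOf chevG2 2) := by decide +kernel
theorem conn_d4 : Conn (cartanOf chevD4 4) := by decide +kernel
theorem conn_f4 : Conn (cartanOf chevF4 4) := by decide +kernel
theorem conn_e6 : Conn (cartanOf chevE6 6) := by decide +kernel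
theorem conn_e7 : Conn (cartanOf chevE7 7) := by decide +kernel
theorem conn_e8 : Conn (cartanOf chevE8 8) := by decide +kernel

end Cfsg.Agent.H660.PQ
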