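import Cfsg.Agent.H660.PQ.Exc
import Cfsg.Agent.H55.PQ.Red
import Cfsg.Agent.H967.FaBase

/-!
# S4981: rows of matrix groups with field automorphisms (helper660)

`sfact_mat` : the reduction, for matrix groups over `F` all whose automorphisms of `p`- and `q`-power order are field
automorphisms up to inner ones.
-/

set_option autoImplicit false

open Cfsg Subgroup

namespace Cfsg.Agent.H660.PQ

open Cfsg.Agent.H54.PQ Cfsg.Agent.H754.PQ Cfsg.Agent.H967.CopMat Cfsg.Agent.H55.PQ.Red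

open scoped MatrixGroups

/-- the reduction for matrix groups -/
theorem sfact_mat {p q : ℕ} {ι : Type} [Fintype ι] [DecidableEq ι] {F : Type} [Field F] [Fintype F]
    {G : Subgroup (GL ι F)} (hG : Stab G) (hZ : center ↥G = ⊥) (hs : Group.IsSolvable (Cfsg.Out ↥G))
    {r n c : ℕ} [Fact r.Prime] [CharP F r] (hn : 1 ≤ n) (hF : Fintype.card F = r ^ n) (hpr : p ≠ r)
    (hinn : ∀ σ : F ≃+* F, σ ≠ 1 → fieldAut hG σ ∉ Cfsg.Inn ↥G) (hc : Nat.card (Cfsg.Out ↥G) ∣ c * n)
    (hcs : ∀ s : ℕ, s.Prime → s ∣ c → s ≤ 3) (h2 : 2 ∣ Nat.card ↥G) (h3 : 3 ∣ Nat.card ↥G)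
    (hcent : ∀ [Fact p.Prime] [Fact q.Prime], p ≠ q → 3 < q → ¬ q ∣ Nat.card ↥G → ∀ φ : F ≃+* F,
      (∃ k : ℕ, orderOf φ = q ^ k) → ¬ q ∣ orderOf ((Nat.card (Fx φ) : ℕ) : ZMod p) →
      CentSyl p (zpowers (fieldAut hG φ)))
    (hfalse : ∀ [Fact p.Prime] [Fact q.Prime], p ≠ q → 7 < p → 3 < q → ¬ q ∣ Nat.card ↥G → p ∣ Nat.card ↥G →
      ∀ (A Φ : Subgroup (MulAut ↥G)) (φ : F ≃+* F), φ ≠ 1 → FSit p q (fieldAut hG) A Φ φ → InvHyp p A Φ →
      q ∣ orderOf ((Nat.card (Fx φ) : ℕ) : ZMod p) → False) : SFact p q ↥G := by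
  intro hp hq hpq hqG
  have : Fact p.Prime := ⟨hp⟩
  have : Fact q.Prime := ⟨hq⟩
  have hpF : (p : F) ≠ 0 := by
    rw [Ne, CharP.cast_eq_zero_iff F r]
    intro h
    exact hpr ((Nat.prime_dvd_prime_iff_eq Fact.out hp).1 h).symm
  have hq3 : 3 < q := by
    by_contra hcon
    have h1 := hq.two_le
    have h4 : q = 2 ∨ q = 3 := by omega
    rcases h4 with rfl | rfl
    · exact hqG h2
    · exact hqG h3
  have hfin : Finite (F ≃+* F) := Finite.of_injective (fun f : F ≃+* F => (f : F → F)) DFunLike.coe_injective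
  have hcard : Nat.card (F ≃+* F) = n := Cfsg.Agent.Lib.FieldAutCard.card_ringAut hn hF
  obtain ⟨τ, hτ⟩ := exists_ringAut r n hF
  have hcyc : IsCyclic (F ≃+* F) := isCyclic_of_orderOf_eq_card τ (by rw [hτ, hcard])
  have hinn' : ∀ γ : F ≃+* F, (orderOf γ).Prime → fieldAut hG γ ∉ Cfsg.Inn ↥G := by
    intro γ hγ
    refine hinn γ ?_
    rintro rfl
    rw [orderOf_one] at hγ
    exact Nat.not_prime_one hγ
  have hpow : ∀ s : ℕ, s.Prime → 3 < s → ∀ k : ℕ, s ^ k ∣ Nat.card (Cfsg.Out ↥G) → s ^ k ∣ Nat.card (F ≃+* F) := by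
    intro s hs h3s k hk
    rw [hcard]
    have h1 : (s ^ k).Coprime c := by
      apply Nat.Coprime.pow_left
      rw [hs.coprime_iff_not_dvd]
      intro h
      exact absurd (hcs s hs h) (by omega)
    exact h1.dvd_of_dvd_mul_left (hk.trans hc)
  have hqk := hpow q hq hq3
  -- `p` and the order of the field
  have hne : ∀ φ : F ≃+* F, ((Nat.card (Fx φ) : ℕ) : ZMod p) ≠ 0 := by
    intro φ
    rw [Ne, ZMod.natCast_eq_zero_iff]
    intro h
    refine not_dvd_card hp hpF (h.trans ?_)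
    rw [card_Fx φ]
    exact dvd_pow_self _ (orderOf_pos φ).ne'
  by_cases hp3 : p ≤ 3
  · refine sfact_of_coprime hZ hs (fieldAut hG) (fun γ hγ => hinn' γ (by rw [hγ]; exact hq)) hqk
      (fun _ _ _ _ φ hφ1 hφ => hcent hpq hq3 hqG φ hφ ?_) hp hq hpq hqG
    intro h
    have h1 := Nat.le_of_dvd (Nat.sub_pos_of_lt hp.one_lt) (h.trans (ZMod.orderOf_dvd_card_sub_one (hne φ)))
    omega
  · push Not at hp3
    refine sfact_of_field hZ hs (fieldAut hG) (fun γ hγ _ => hinn' γ hγ) (hpow p hp hp3) hqk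
      (fun _ _ _ _ A Φ φ hφ1 hF' hinv => ?_) hp hq hpq hqG
    by_cases hpG : p ∣ Nat.card ↥G
    · by_cases hord : q ∣ orderOf ((Nat.card (Fx φ) : ℕ) : ZMod p)
      · refine (hfalse hpq ?_ hq3 hqG hpG A Φ φ hφ1 hF' hinv hord).elim
        have h1 : q ∣ p - 1 := hord.trans (ZMod.orderOf_dvd_card_sub_one (hne φ))
        have h4 : 2 ∣ p - 1 := by
          have h5 := (hp.eq_two_or_odd).resolve_left (by omega)
          omega
        have h5 : q * 2 ∣ p - 1 := by
          refine Nat.Coprime.mul_dvd_of_dvd_of_dvd ?_ h1 h4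
          rw [Nat.Prime.coprime_iff_not_dvd hq]
          intro h6
          have := Nat.le_of_dvd (by norm_num) h6
          omega
        have h6 := Nat.le_of_dvd (by omega) h5
        omega
      · rw [hF'.Φ]
        exact hcent hpq hq3 hqG φ hF'.φ hord
    · exact centSyl_of_not_dvd hpG Φ

/-- the eigenvalues are closed under the Frobenius automorphism of `F` -/
theorem rts_frob {ι : Type} [Fintype ι] [DecidableEq ι] {F : Type} [Field F] [Finite F] {G : Subgroup (GL ι F)}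
    {K : Type} [Field K] [Finite K] [Algebra F K]
    (hsp : ∀ g : ↥G, (((g : GL ι F) : Matrix ι ι F).charpoly.map (algebraMap F K)).Splits) (x : ↥G) :
    (rts G.subtype K x).map (· ^ Nat.card F) = rts G.subtype K x := by
  classical
  have := Fintype.ofFinite F
  obtain ⟨r, hr⟩ := CharP.exists F
  have hrp : Fact r.Prime := ⟨CharP.char_is_prime F r⟩
  obtain ⟨n, _, hn⟩ := FiniteField.card F r
  have h := rts_semi (ρ := G.subtype) (K := K) hsp (r := r) (σ := (1 : F ≃+* F)) (n := n)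
    (fun x => by rw [← hn, FiniteField.pow_card]; rfl) (s := 1) (y := x) (y' := x) (by
      rw [one_mul, inv_one, mul_one]
      exact Units.ext (Matrix.ext fun i j => rfl))
  rw [Nat.card_eq_fintype_card, hn]
  exact h.symm

end Cfsg.Agent.H660.PQ
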