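import Cfsg.Agent.H660.PQ.RowBase
import Cfsg.Agent.H660.PQ.OrdPrime
import Cfsg.Agent.H417.PQ.CentChev
import Cfsg.Agent.H881.PQ.E8Par

/-!
# S4981: the exceptional Chevalley groups in cross characteristic (helper660)

`TwoChev D` : the case `|F|² = 1` modulo `p` (helper754). `row_chev_cross_of` : the row from these.
-/

set_option autoImplicit false

open Cfsg Subgroup

namespace Cfsg.Agent.H660.PQ

open Cfsg.Lie Cfsg.Agent.ChevalleyStructure Cfsg.Agent.ChevalleyStructure.Elts
  Cfsg.Agent.ChevalleyStructure.CoxeterGeomTypes Cfsg.Agent.Nodes.RGDChev Cfsg.Agent.H54.PQ Cfsg.Agent.H754.PQ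
  Cfsg.Agent.H967.CopMat Cfsg.Agent.H967.CopChev Cfsg.Agent.H967.FaBase Cfsg.Agent.H55.PQ.Red

/-- the case `|F|² = 1` modulo `p` -/
def TwoChev (D : ChevalleyDatum) : Prop :=
  ∀ (p q : ℕ) [Fact p.Prime] [Fact q.Prime] (F : Type) [Field F] [Fintype F], 7 < p → 3 < q → (p : F) ≠ 0 →
    ¬ q ∣ Nat.card ↥(D.group F) → p ∣ Nat.card ↥(D.group F) →
    ∀ (A Φ : Subgroup (MulAut ↥(D.group F))) (φ : F ≃+* F), φ ≠ 1 → FSit p q (fieldAut (stab_group D F)) A Φ φ →
      InvHyp p A Φ → q ∣ orderOf ((Nat.card (Fx φ) : ℕ) : ZMod p) → ((Nat.card F : ℕ) : ZMod p) ^ 2 = 1 → False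

/-- the numerical contradiction for `D` and `q` -/
def NumOK (D : ChevalleyDatum) (l p q : ℕ) [Fact p.Prime] : Prop :=
  ∀ (a : (Fin l → ℤ) →+ ZMod p) (c : (ZMod p)ˣ) (j : ℕ), a ≠ 0 → q ∣ orderOf c → 1 ≤ j →
      (∀ b, b ≠ 0 → nb D a ((c ^ q ^ j : (ZMod p)ˣ) * b) = nb D a b) →
      (∀ b, b ≠ 0 → (p : ℤ) ∣ (nb D a (c * b) : ℤ) - nb D a b) → 2 ∣ Nat.card (cl (c ^ q ^ j)) →
      4 ≤ Nat.card (cl (c ^ q ^ j)) → False

section

variable {D : ChevalleyDatum} {l : ℕ} {M : CoxeterMatrix (Fin l)}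

theorem numOK_of {p q : ℕ} [Fact p.Prime] [Fact q.Prime] (hD : IsType D l M) (hc : Conn (cartanOf D l))
    (hn : D.nroots < 8 * q) (hqn : ¬ q ∣ D.nroots) (hq2 : q ≠ 2) : NumOK D l p q := by
  intro a c j ha hqc hj hQ hcc _ h4
  refine num_false hD hc ha Fact.out hq2 hqc hj hQ hcc h4 (hn.trans_le ?_) hqn
  nlinarith

theorem numOK_e8 {p q : ℕ} [Fact p.Prime] [Fact q.Prime] (h7 : 7 < p) (hq : 17 ≤ q) : NumOK chevE8 8 p q := by
  have hD : IsType chevE8 8 CoxeterMatrix.E₈ := by simp [IsType, typeList]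
  intro a c j ha hqc hj hQ hcc h2 h4
  refine num_false_e8 ha ?_ Fact.out hq hqc hj hQ hcc h2 h4
  rintro h3 ⟨s, hs, hs0⟩ hne
  exact Cfsg.Agent.H881.PQ.e8_par h7 (lin_of hD a) h3 hs hs0 hne

/-- the row of `D.group F` -/
theorem row_group {p q : ℕ} (hD : IsType D l M) (htwo : TwoChev D) {F : Type} [Field F] [Fintype F]
    [IsSimpleGroup ↥(D.group F)] (hnc : ¬ IsMulCommutative ↥(D.group F))
    (hs : Group.IsSolvable (Cfsg.Out ↥(D.group F))) {r n c : ℕ} [Fact r.Prime] [CharP F r] (hn : 1 ≤ n)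
    (hF : Fintype.card F = r ^ n) (hpr : p ≠ r) (hc : Nat.card (Cfsg.Out ↥(D.group F)) ∣ c * n)
    (hcs : ∀ s : ℕ, s.Prime → s ∣ c → s ≤ 3) (h2 : 2 ∣ Nat.card ↥(D.group F)) (h3 : 3 ∣ Nat.card ↥(D.group F))
    (hnum : ∀ [Fact p.Prime] [Fact q.Prime], 7 < p → ¬ q ∣ Nat.card ↥(D.group F) → NumOK D l p q) :
    SFact p q ↥(D.group F) := by
  have hZ : center ↥(D.group F) = ⊥ := by
    refine (Subgroup.Normal.eq_bot_or_eq_top (H := center ↥(D.group F)) inferInstance).resolve_right fun h => ?_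
    refine hnc ⟨⟨fun a b => ?_⟩⟩
    have ha : a ∈ center ↥(D.group F) := by rw [h]; exact mem_top a
    exact (mem_center_iff.1 ha b).symm
  refine sfact_mat (stab_group D F) hZ hs hn hF hpr (fun σ hσ => not_inner hD.inList σ hσ) hc hcs h2 h3 ?_ ?_
  · intro hp hq hpq hq3 hqG φ hφ hord
    have hpF : (p : F) ≠ 0 := by
      rw [Ne, CharP.cast_eq_zero_iff F r]
      intro h
      exact hpr ((Nat.prime_dvd_prime_iff_eq Fact.out hp.out).1 h).symm
    exact Cfsg.Agent.H417.PQ.cent_chev hD.inList hq.out hpq hpF hφ hord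
  · intro hp hq hpq h7 hq3 hqG hpG A Φ φ hφ hFS hinv hord
    have hpF : (p : F) ≠ 0 := by
      rw [Ne, CharP.cast_eq_zero_iff F r]
      intro h
      exact hpr ((Nat.prime_dvd_prime_iff_eq Fact.out hp.out).1 h).symm
    by_cases htw : ((Nat.card F : ℕ) : ZMod p) ^ 2 = 1
    · exact htwo p q F h7 hq3 hpF hqG hpG A Φ φ hφ hFS hinv hord htw
    · refine exc_false hD h7 hpF (stab_group D F) le_rfl hφ hFS hinv hpG (s := Nat.card (Fx φ)) (d := 1)
        (pow_one _).symm (fun h => hq.out.one_lt.ne' (Nat.dvd_one.1 h)) hord ?_ ?_ (hnum h7 hqG)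
      · intro K _ _ _ hsp x
        rw [← card_Fx φ]
        exact rts_frob hsp x
      · rw [← card_Fx φ]
        exact htw

end

theorem nroots_g2 : chevG2.nroots = 12 := by decide +kernel
theorem nroots_f4 : chevF4.nroots = 48 := by decide +kernel
theorem nroots_e6 : chevE6.nroots = 72 := by decide +kernel
theorem nroots_e7 : chevE7.nroots = 126 := by decide +kernel
theorem nroots_e8 : chevE8.nroots = 240 := by decide +kernel

/-- a prime which is not in the list -/
theorem le_of_not_mem {q m : ℕ} (hq : q.Prime) (h : ∀ s < m, s.Prime → q ≠ s) : m ≤ q := by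
  by_contra hcon
  push Not at hcon
  exact h q hcon hq rfl

theorem not_dvd_two_three {q : ℕ} (hq : q.Prime) (hq3 : 3 < q) (a b : ℕ) : ¬ q ∣ 2 ^ a * 3 ^ b := by
  intro h
  rcases hq.dvd_mul.1 h with h | h
  · have := (Nat.prime_dvd_prime_iff_eq hq Nat.prime_two).1 (hq.dvd_of_dvd_pow h); omega
  · have := (Nat.prime_dvd_prime_iff_eq hq Nat.prime_three).1 (hq.dvd_of_dvd_pow h); omega

universe u

variable {p q r : ℕ}

theorem sfact_g2 (htwo : TwoChev chevG2) (hpr : p ≠ r) {F : Type} [Field F] [Fintype F] [CharP F r]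
    (h3 : 3 ≤ Fintype.card F) : SFact p q ↥(chevG2.group F) := by
  obtain ⟨n, hr, hF⟩ := FiniteField.card F r
  have : Fact r.Prime := ⟨hr⟩
  have hsimple : IsSimpleGroup ↥(chevG2.group F) ∧ ¬ IsMulCommutative ↥(chevG2.group F) := by
    refine S1055.result (F := F) ?_
    classical
    by_contra hcon
    push Not at hcon
    have h4 : Fintype.card F ≤ 2 := by
      have h5 : (Finset.univ : Finset F) ⊆ {0, 1} := fun a _ => by
        by_cases h6 : a = 0
        · simp [h6]
        · simp [hcon a h6]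
      calc Fintype.card F = (Finset.univ : Finset F).card := rfl
        _ ≤ ({0, 1} : Finset F).card := Finset.card_le_card h5
        _ ≤ 2 := Finset.card_le_two
    omega
  have := hsimple.1
  obtain ⟨d, ho⟩ := ord_g2 (K := F)
  have hD : IsType chevG2 2 CoxeterMatrix.G₂ := by simp [IsType, typeList]
  refine row_group (c := 2) hD htwo hsimple.2 (H254.isSolvable_out_of_sch (Schreier.Chev.sch_g2 F)) n.pos hF hpr ?_ ?_
    (two_dvd_of_ord hD.inList ho (by rw [nroots_g2]; norm_num) (by simp))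
    (three_dvd_of_ord hD.inList ho (by rw [nroots_g2]; norm_num) (by simp) (k := 6) (by simp) (by norm_num)) ?_
  · rw [S2121.result r n hF (by rw [← hF]; exact h3)]
    split_ifs
    · exact dvd_rfl
    · exact dvd_mul_left _ _
  · intro s hs h
    exact (Nat.le_of_dvd (by norm_num) h).trans (by norm_num)
  · intro hp hq h7 hqG
    have hq4 : 4 ≤ q := by
      refine le_of_not_mem hq.out fun s hs hsp => ?_
      have := hsp.two_le
      rintro rfl
      have h6 : q = 2 ∨ q = 3 := by omega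
      rcases h6 with rfl | rfl
      · exact hqG (two_dvd_of_ord hD.inList ho (by rw [nroots_g2]; norm_num) (by simp))
      · exact hqG (three_dvd_of_ord hD.inList ho (by rw [nroots_g2]; norm_num) (by simp) (k := 6) (by simp) (by norm_num))
    refine numOK_of hD conn_g2 (by rw [nroots_g2]; omega) ?_ (by omega)
    rw [nroots_g2]
    exact not_dvd_two_three hq.out (by omega) 2 1

theorem two_le_nroots {n m : ℕ} (h : n = m) (hm : 2 ≤ m) : 2 ≤ n := by omega

/-- small primes -/
theorem prime_cases {q : ℕ} (hq : q.Prime) (h : q < 17) :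
    q = 2 ∨ q = 3 ∨ q = 5 ∨ q = 7 ∨ q = 11 ∨ q = 13 := by
  interval_cases q <;> first | omega | exact absurd hq (by norm_num)

theorem sfact_f4 (htwo : TwoChev chevF4) (hpr : p ≠ r) {F : Type} [Field F] [Fintype F] [CharP F r] :
    SFact p q ↥(chevF4.group F) := by
  obtain ⟨n, hr, hF⟩ := FiniteField.card F r
  have : Fact r.Prime := ⟨hr⟩
  have hsimple := S1054.result (F := F) chevF4 (by simp)
  have := hsimple.1
  obtain ⟨d, ho⟩ := ord_f4 (K := F)
  have hD : IsType chevF4 4 CoxeterMatrix.F₄ := by simp [IsType, typeList]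
  have hN : 2 ≤ chevF4.nroots := by rw [nroots_f4]; norm_num
  have h2 := two_dvd_of_ord hD.inList ho hN (by simp)
  have h3 := three_dvd_of_ord hD.inList ho hN (by simp) (k := 6) (by simp) (by norm_num)
  refine row_group (c := 2) hD htwo hsimple.2 (H254.isSolvable_out_of_sch (Schreier.Chev.sch_f4 F)) n.pos hF hpr ?_ ?_
    h2 h3 ?_
  · rw [S2122.result r n hF]
    exact mul_dvd_mul_right (Nat.gcd_dvd_left _ _) _
  · intro s hs h
    exact (Nat.le_of_dvd (by norm_num) h).trans (by norm_num)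
  · intro hp hq h7 hqG
    have hq8 : 8 ≤ q := by
      by_contra hcon
      rcases prime_cases hq.out (by omega) with rfl | rfl | rfl | rfl | rfl | rfl
      · exact hqG h2
      · exact hqG h3
      · exact hqG (prime_dvd_of_ord ho hN hq.out (by norm_num) (k := 8) (by simp) (by norm_num))
      · exact hqG (prime_dvd_of_ord ho hN hq.out (by norm_num) (k := 6) (by simp) (by norm_num))
      · omega
      · omega
    refine numOK_of hD conn_f4 (by rw [nroots_f4]; omega) ?_ (by omega)
    rw [nroots_f4]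
    exact not_dvd_two_three hq.out (by omega) 4 1

theorem sfact_e6 (htwo : TwoChev chevE6) (hpr : p ≠ r) {F : Type} [Field F] [Fintype F] [CharP F r] :
    SFact p q ↥(chevE6.group F) := by
  obtain ⟨n, hr, hF⟩ := FiniteField.card F r
  have : Fact r.Prime := ⟨hr⟩
  have hsimple := S1054.result (F := F) chevE6 (by simp)
  have := hsimple.1
  obtain ⟨d, ho⟩ := ord_e6 (K := F)
  have hD : IsType chevE6 6 CoxeterMatrix.E₆ := by simp [IsType, typeList]
  have hN : 2 ≤ chevE6.nroots := by rw [nroots_e6]; norm_num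
  have h2 := two_dvd_of_ord hD.inList ho hN (by simp)
  have h3 := three_dvd_of_ord hD.inList ho hN (by simp) (k := 6) (by simp) (by norm_num)
  refine row_group (c := 2 * Nat.gcd 3 (r ^ (n : ℕ) - 1)) hD htwo hsimple.2
    (H254.isSolvable_out_of_sch (Schreier.Chev.sch_e6 F)) n.pos hF hpr ?_ ?_ h2 h3 ?_
  · rw [S2123.result r n hF]
  · intro s hs h
    rcases (hs.dvd_mul).1 h with h | h
    · exact (Nat.le_of_dvd (by norm_num) h).trans (by norm_num)
    · exact Nat.le_of_dvd (by norm_num) (h.trans (Nat.gcd_dvd_left _ _))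
  · intro hp hq h7 hqG
    have hq8 : 11 ≤ q := by
      by_contra hcon
      rcases prime_cases hq.out (by omega) with rfl | rfl | rfl | rfl | rfl | rfl
      · exact hqG h2
      · exact hqG h3
      · exact hqG (prime_dvd_of_ord ho hN hq.out (by norm_num) (k := 8) (by simp) (by norm_num))
      · exact hqG (prime_dvd_of_ord ho hN hq.out (by norm_num) (k := 6) (by simp) (by norm_num))
      · omega
      · omega
    refine numOK_of hD conn_e6 (by rw [nroots_e6]; omega) ?_ (by omega)
    rw [nroots_e6]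
    exact not_dvd_two_three hq.out (by omega) 3 2

theorem sfact_e7 (htwo : TwoChev chevE7) (hpr : p ≠ r) {F : Type} [Field F] [Fintype F] [CharP F r] :
    SFact p q ↥(chevE7.group F) := by
  obtain ⟨n, hr, hF⟩ := FiniteField.card F r
  have : Fact r.Prime := ⟨hr⟩
  have hsimple := S1054.result (F := F) chevE7 (by simp)
  have := hsimple.1
  obtain ⟨d, ho⟩ := ord_e7 (K := F)
  have hD : IsType chevE7 7 CoxeterMatrix.E₇ := by simp [IsType, typeList]
  have hN : 2 ≤ chevE7.nroots := by rw [nroots_e7]; norm_num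
  have h2 := two_dvd_of_ord hD.inList ho hN (by simp)
  have h3 := three_dvd_of_ord hD.inList ho hN (by simp) (k := 6) (by simp) (by norm_num)
  refine row_group (c := Nat.gcd 2 (r ^ (n : ℕ) - 1)) hD htwo hsimple.2
    (H254.isSolvable_out_of_sch (Schreier.Chev.sch_e7 F)) n.pos hF hpr ?_ ?_ h2 h3 ?_
  · rw [S2124.result r n hF]
  · intro s hs h
    exact (Nat.le_of_dvd (by norm_num) (h.trans (Nat.gcd_dvd_left _ _))).trans (by norm_num)
  · intro hp hq h7 hqG
    have hq17 : 17 ≤ q := by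
      by_contra hcon
      rcases prime_cases hq.out (by omega) with rfl | rfl | rfl | rfl | rfl | rfl
      · exact hqG h2
      · exact hqG h3
      · exact hqG (prime_dvd_of_ord ho hN hq.out (by norm_num) (k := 8) (by simp) (by norm_num))
      · exact hqG (prime_dvd_of_ord ho hN hq.out (by norm_num) (k := 6) (by simp) (by norm_num))
      · exact hqG (prime_dvd_of_ord ho hN hq.out (by norm_num) (k := 10) (by simp) (by norm_num))
      · exact hqG (prime_dvd_of_ord ho hN hq.out (by norm_num) (k := 12) (by simp) (by norm_num))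
    refine numOK_of hD conn_e7 (by rw [nroots_e7]; omega) ?_ (by omega)
    rw [nroots_e7]
    intro h
    have h1 : (126 : ℕ) = (2 ^ 1 * 3 ^ 2) * 7 := by norm_num
    rw [h1] at h
    rcases hq.out.dvd_mul.1 h with h | h
    · exact not_dvd_two_three hq.out (by omega) 1 2 h
    · have := Nat.le_of_dvd (by norm_num) h; omega

theorem sfact_e8 (htwo : TwoChev chevE8) (hpr : p ≠ r) {F : Type} [Field F] [Fintype F] [CharP F r] :
    SFact p q ↥(chevE8.group F) := by
  obtain ⟨n, hr, hF⟩ := FiniteField.card F r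
  have : Fact r.Prime := ⟨hr⟩
  have hsimple := S1054.result (F := F) chevE8 (by simp)
  have := hsimple.1
  obtain ⟨d, ho⟩ := ord_e8 (K := F)
  have hD : IsType chevE8 8 CoxeterMatrix.E₈ := by simp [IsType, typeList]
  have hN : 2 ≤ chevE8.nroots := by rw [nroots_e8]; norm_num
  have h2 := two_dvd_of_ord hD.inList ho hN (by simp)
  have h3 := three_dvd_of_ord hD.inList ho hN (by simp) (k := 12) (by simp) (by norm_num)
  refine row_group (c := 1) hD htwo hsimple.2
    (H254.isSolvable_out_of_sch (Schreier.Chev.sch_e8 F)) n.pos hF hpr ?_ ?_ h2 h3 ?_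
  · rw [S2125.result r n hF, one_mul]
  · intro s hs h
    exact (Nat.le_of_dvd (by norm_num) h).trans (by norm_num)
  · intro hp hq h7 hqG
    have hq17 : 17 ≤ q := by
      by_contra hcon
      rcases prime_cases hq.out (by omega) with rfl | rfl | rfl | rfl | rfl | rfl
      · exact hqG h2
      · exact hqG h3
      · exact hqG (prime_dvd_of_ord ho hN hq.out (by norm_num) (k := 8) (by simp) (by norm_num))
      · exact hqG (prime_dvd_of_ord ho hN hq.out (by norm_num) (k := 12) (by simp) (by norm_num))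
      · exact hqG (prime_dvd_of_ord ho hN hq.out (by norm_num) (k := 20) (by simp) (by norm_num))
      · exact hqG (prime_dvd_of_ord ho hN hq.out (by norm_num) (k := 12) (by simp) (by norm_num))
    exact numOK_e8 h7 hq17

/-- **the exceptional Chevalley groups in cross characteristic** -/
theorem row_chev_cross_of (hG2 : TwoChev chevG2) (hF4 : TwoChev chevF4) (hE6 : TwoChev chevE6)
    (hE7 : TwoChev chevE7) (hE8 : TwoChev chevE8) (hpr : p ≠ r) {G : Type u} [Group G] [Finite G]
    (hG : IsExceptionalChevChar r G) : SFact p q G := by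
  obtain ⟨F, _, _, _, ⟨h3, ⟨e⟩⟩ | ⟨⟨e⟩⟩ | ⟨⟨e⟩⟩ | ⟨⟨e⟩⟩ | ⟨⟨e⟩⟩⟩ := hG
  · exact sfact_congr e (sfact_g2 hG2 hpr h3)
  · exact sfact_congr e (sfact_f4 hF4 hpr)
  · exact sfact_congr e (sfact_e6 hE6 hpr)
  · exact sfact_congr e (sfact_e7 hE7 hpr)
  · exact sfact_congr e (sfact_e8 hE8 hpr)

end Cfsg.Agent.H660.PQ
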