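import Cfsg.Agent.H660.PQ.Core
import Cfsg.Agent.H501.Szep.TorStr

/-!
# S4981: the functional of a torus element of order `p` (helper660)

`exists_log` : a torus element `t`, `t ^ p = 1`, is given by a functional `a` modulo `p` on the root lattice;
`count_rts` : the eigenvalues of `t` and the numbers `nb D a b`.
-/

set_option autoImplicit false

namespace Cfsg.Agent.H660.PQ

open CoxeterSystem Cfsg.Lie Cfsg.Agent.ChevalleyStructure Cfsg.Agent.ChevalleyStructure.Elts
  Cfsg.Agent.ChevalleyStructure.CoxeterGeom Cfsg.Agent.ChevalleyStructure.CoxeterGeomTypes Cfsg.Agent.Tits.Roots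
  Cfsg.Agent.Nodes.RGDChev Cfsg.Agent.H129.TorusChar Cfsg.Agent.BpExc.TorChev
  Cfsg.Agent.KFacts.RgdChevCoord

universe u

/-! ### the roots of unity -/

section ze

variable {p : ℕ} [hp : Fact p.Prime] {K : Type u} [Field K] {ζ : K} (hζ : IsPrimitiveRoot ζ p)

include hζ

theorem ze_nat (n : ℕ) : ζ ^ (n : ZMod p).val = ζ ^ n := by
  rw [ZMod.val_natCast]
  nth_rewrite 1 [hζ.eq_orderOf]
  rw [pow_mod_orderOf]

theorem ze_add (b c : ZMod p) : ζ ^ (b + c).val = ζ ^ b.val * ζ ^ c.val := by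
  rw [← pow_add, ← ze_nat hζ (b.val + c.val), Nat.cast_add, ZMod.natCast_zmod_val, ZMod.natCast_zmod_val]

theorem ze_mul (n : ℕ) (b : ZMod p) : ζ ^ ((n : ZMod p) * b).val = (ζ ^ b.val) ^ n := by
  rw [← pow_mul, ← ze_nat hζ (b.val * n), Nat.cast_mul, ZMod.natCast_zmod_val, mul_comm]

theorem ze_inj {b c : ZMod p} (h : ζ ^ b.val = ζ ^ c.val) : b = c :=
  ZMod.val_injective p (hζ.pow_inj b.val_lt c.val_lt h)

theorem ze_surj {x : K} (hx : x ^ p = 1) : ∃ b : ZMod p, x = ζ ^ b.val := by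
  obtain ⟨i, hi, h⟩ := hζ.eq_pow_of_pow_eq_one hx
  exact ⟨i, by rw [ze_nat hζ, h]⟩

omit hp in
theorem ze_pow (b : ZMod p) : (ζ ^ b.val) ^ p = 1 := by
  rw [← pow_mul, mul_comm, pow_mul, hζ.pow_eq_one, one_pow]

omit hζ in
theorem ze_zero : ζ ^ (0 : ZMod p).val = 1 := by rw [ZMod.val_zero, pow_zero]

end ze

/-! ### the functional -/

section tor

variable {D : ChevalleyDatum} {l : ℕ} {M : CoxeterMatrix (Fin l)} (hD : IsType D l M) {p : ℕ} [hp : Fact p.Prime]
  {K : Type u} [Field K] {ζ : K} (hζ : IsPrimitiveRoot ζ p) {t : ↥(D.group K)} (ht : t ∈ TT D K) (htp : t ^ p = 1)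

include hζ ht htp

theorem exists_log : ∃ a : (Fin l → ℤ) →+ ZMod p, ∀ x, cX hD t x = ζ ^ (a x).val := by
  have h1 : ∀ x, ∃ b : ZMod p, cX hD t x = ζ ^ b.val := fun x =>
    ze_surj hζ (by rw [← cX_pow hD ht, htp, cX_one])
  choose a ha using h1
  refine ⟨AddMonoidHom.mk' a fun x y => ?_, fun x => by rw [AddMonoidHom.mk'_apply, ha]⟩
  apply ze_inj hζ
  rw [ze_add hζ, ← ha, ← ha, ← ha, (isMC_cX hD ht).add]

omit htp in
theorem log_ne_zero (ht1 : t ≠ 1) {a : (Fin l → ℤ) →+ ZMod p} (ha : ∀ x, cX hD t x = ζ ^ (a x).val) : a ≠ 0 := by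
  rintro rfl
  apply ht1
  refine cX_inj hD ht (one_mem _) fun i => ?_
  rw [ha, cX_one, AddMonoidHom.zero_apply, ze_zero]

end tor

/-! ### counting -/

section count

variable {p : ℕ} [hp : Fact p.Prime] {K : Type u} [Field K] [DecidableEq K]

/-- the eigenvalues of a power -/
theorem count_map_pow {R : Multiset K} (hR : ∀ x ∈ R, x ^ p = 1) {w : ℕ} (hw : ¬ p ∣ w) {μ : K} (hμ : μ ^ p = 1) :
    (R.map (· ^ w)).count (μ ^ w) = R.count μ := by
  rw [Multiset.count_map, Multiset.count_eq_card_filter_eq]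
  congr 1
  refine Multiset.filter_congr fun x hx => ?_
  constructor
  · intro h
    have h1 := hR x hx
    have hx0 : x ≠ 0 := by
      rintro rfl
      rw [zero_pow hp.out.ne_zero] at h1
      exact zero_ne_one h1
    have h2 : (μ / x) ^ w = 1 := by rw [div_pow, h, div_self (pow_ne_zero _ hx0)]
    have h3 : (μ / x) ^ p = 1 := by rw [div_pow, hμ, h1, div_one]
    have h4 : (μ / x) ^ Nat.gcd w p = 1 := pow_gcd_eq_one.2 ⟨h2, h3⟩
    rw [((Nat.Prime.coprime_iff_not_dvd hp.out).2 hw).symm, pow_one] at h4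
    exact (div_eq_one_iff_eq hx0).1 h4
  · rintro rfl
    rfl

/-- the multiset of the eigenvalues of a torus element -/
theorem count_diag {a b : ℕ} (f : Fin b → K) {μ : K} (hμ : μ ≠ 1) :
    (((Finset.univ : Finset (Fin a ⊕ Fin b)).val.map (Sum.elim (fun _ => (1 : K)) f))).count μ =
      (Finset.univ.filter fun s => f s = μ).card := by
  rw [Multiset.count_map, ← Finset.filter_val]
  have e : (Finset.univ.filter fun i : Fin a ⊕ Fin b => μ = Sum.elim (fun _ => (1 : K)) f i) =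
      (∅ : Finset (Fin a)).disjSum (Finset.univ.filter fun s => f s = μ) := by
    ext i
    rcases i with i | i
    · simp [hμ]
    · simp [eq_comm]
  rw [e]
  show (Finset.card _) = _
  rw [Finset.card_disjSum, Finset.card_empty, zero_add]

omit [DecidableEq K] [Field K] hp in
theorem card_filter_fin {n : ℕ} (P : ℕ → Prop) [DecidablePred P] :
    (Finset.univ.filter fun s : Fin n => P s).card = ((Finset.range n).filter P).card := by
  refine Finset.card_bij (fun s _ => (s : ℕ)) ?_ ?_ ?_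
  · intro s hs
    rw [Finset.mem_filter] at hs
    exact Finset.mem_filter.2 ⟨Finset.mem_range.2 s.2, hs.2⟩
  · intro s _ s' _ h
    exact Fin.ext h
  · intro s hs
    rw [Finset.mem_filter, Finset.mem_range] at hs
    exact ⟨⟨s, hs.1⟩, Finset.mem_filter.2 ⟨Finset.mem_univ _, hs.2⟩, rfl⟩

end count

end Cfsg.Agent.H660.PQ
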